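import Cfsg.Agent.SL2Pres.Bruhat

/-!
# A group with the rank one Steinberg relations has at most `|SL₂(q)|` elements

Generators `X(t)`, `Y(t)`, additive in `t`, with `w(t) X(v) w(t)⁻¹ = Y(-t⁻² v)` for
`w(t) = X(t) Y(-t⁻¹) X(t)`.
-/

set_option autoImplicit false
set_option linter.unusedSectionVars false

namespace CfsgLib.SL2Steinberg

variable {G F : Type*} [Group G] [Field F]

/-- The relations. -/
structure Rel (X Y : F → G) : Prop where
  gen : Subgroup.closure (Set.range X ∪ Set.range Y) = ⊤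
  addX : ∀ s t, X (s + t) = X s * X t
  addY : ∀ s t, Y (s + t) = Y s * Y t
  wX : ∀ t v : F, t ≠ 0 →
    (X t * Y (-t⁻¹) * X t) * X v * (X t * Y (-t⁻¹) * X t)⁻¹ = Y (-(t⁻¹ ^ 2 * v))

variable {X Y : F → G}

/-- `w(t)`. -/
def W (X Y : F → G) (t : F) : G := X t * Y (-t⁻¹) * X t

/-- `h(t)`. -/
def H (X Y : F → G) (t : F) : G := W X Y t * W X Y (-1)

theorem X_neg (R : Rel X Y) (t : F) : X (-t) = (X t)⁻¹ := by
  have h0 : X 0 = 1 := by simpa using R.addX 0 0
  exact eq_inv_of_mul_eq_one_left (by rw [← R.addX, neg_add_cancel, h0])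

theorem Y_neg (R : Rel X Y) (t : F) : Y (-t) = (Y t)⁻¹ := by
  have h0 : Y 0 = 1 := by simpa using R.addY 0 0
  exact eq_inv_of_mul_eq_one_left (by rw [← R.addY, neg_add_cancel, h0])

theorem W_neg (R : Rel X Y) (t : F) : W X Y (-t) = (W X Y t)⁻¹ := by
  simp only [W, inv_neg, X_neg R, Y_neg R]
  group

theorem W_X (R : Rel X Y) {t : F} (ht : t ≠ 0) (v : F) :
    W X Y t * X v * (W X Y t)⁻¹ = Y (-(t⁻¹ ^ 2 * v)) := R.wX t v ht

theorem W_Y (R : Rel X Y) {t : F} (ht : t ≠ 0) (s : F) :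
    W X Y t * Y s * (W X Y t)⁻¹ = X (-(t ^ 2 * s)) := by
  have h := R.wX (-t) (-(t ^ 2 * s)) (neg_ne_zero.2 ht)
  change W X Y (-t) * _ * (W X Y (-t))⁻¹ = _ at h
  rw [W_neg R, inv_inv, show -((-t)⁻¹ ^ 2 * -(t ^ 2 * s)) = s by field_simp] at h
  rw [← h]
  group

theorem W_eq (R : Rel X Y) {t : F} (ht : t ≠ 0) : W X Y t = Y (-t⁻¹) * X t * Y (-t⁻¹) := by
  calc W X Y t = W X Y t * X t * Y (-t⁻¹) * X t * (W X Y t)⁻¹ := by
        rw [show W X Y t * X t * Y (-t⁻¹) * X t = W X Y t * W X Y t by simp [W, mul_assoc],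
          mul_inv_cancel_right]
    _ = (W X Y t * X t * (W X Y t)⁻¹) * (W X Y t * Y (-t⁻¹) * (W X Y t)⁻¹) *
          (W X Y t * X t * (W X Y t)⁻¹) := by group
    _ = _ := by
      rw [W_X R ht, W_Y R ht]
      have e1 : -(t⁻¹ ^ 2 * t) = -t⁻¹ := by field_simp
      have e2 : -(t ^ 2 * -t⁻¹) = t := by field_simp
      rw [e1, e2]

theorem W_conj (R : Rel X Y) {t u : F} (ht : t ≠ 0) (hu : u ≠ 0) :
    W X Y t * W X Y u * (W X Y t)⁻¹ = W X Y (t ^ 2 * u⁻¹) := by
  calc W X Y t * W X Y u * (W X Y t)⁻¹ = (W X Y t * X u * (W X Y t)⁻¹) *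
        (W X Y t * Y (-u⁻¹) * (W X Y t)⁻¹) * (W X Y t * X u * (W X Y t)⁻¹) := by
        rw [show W X Y u = X u * Y (-u⁻¹) * X u from rfl]; group
    _ = _ := by
      rw [W_X R ht, W_Y R ht, W_eq R (mul_ne_zero (pow_ne_zero 2 ht) (inv_ne_zero hu))]
      congr 3 <;> field_simp

theorem H_one (R : Rel X Y) : H X Y (1 : F) = 1 := by
  rw [H, W_neg R, mul_inv_cancel]

theorem W_eq_H_mul (R : Rel X Y) (t : F) : W X Y t = H X Y t * W X Y 1 := by
  rw [H, W_neg R, inv_mul_cancel_right]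

theorem H_X (R : Rel X Y) {t : F} (ht : t ≠ 0) (v : F) :
    H X Y t * X v * (H X Y t)⁻¹ = X (t ^ 2 * v) := by
  calc H X Y t * X v * (H X Y t)⁻¹
      = W X Y t * (W X Y (-1) * X v * (W X Y (-1))⁻¹) * (W X Y t)⁻¹ := by simp only [H]; group
    _ = _ := by
      rw [W_X R (neg_ne_zero.2 one_ne_zero), W_Y R ht]
      congr 1; ring

theorem H_Y (R : Rel X Y) {t : F} (ht : t ≠ 0) (v : F) :
    H X Y t * Y v * (H X Y t)⁻¹ = Y (t⁻¹ ^ 2 * v) := by
  calc H X Y t * Y v * (H X Y t)⁻¹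
      = W X Y t * (W X Y (-1) * Y v * (W X Y (-1))⁻¹) * (W X Y t)⁻¹ := by simp only [H]; group
    _ = _ := by
      rw [W_Y R (neg_ne_zero.2 one_ne_zero), W_X R ht]
      congr 1; ring

theorem H_W (R : Rel X Y) {t u : F} (ht : t ≠ 0) (hu : u ≠ 0) :
    H X Y t * W X Y u * (H X Y t)⁻¹ = W X Y (t ^ 2 * u) := by
  calc H X Y t * W X Y u * (H X Y t)⁻¹
      = (H X Y t * X u * (H X Y t)⁻¹) * (H X Y t * Y (-u⁻¹) * (H X Y t)⁻¹) *
          (H X Y t * X u * (H X Y t)⁻¹) := by
        rw [show W X Y u = X u * Y (-u⁻¹) * X u from rfl]; group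
    _ = _ := by
      rw [H_X R ht, H_Y R ht]
      show _ = X (t ^ 2 * u) * Y (-(t ^ 2 * u)⁻¹) * X (t ^ 2 * u)
      congr 3
      field_simp

theorem W1_conj_H (R : Rel X Y) {t : F} (ht : t ≠ 0) :
    W X Y 1 * H X Y t * (W X Y 1)⁻¹ = H X Y t⁻¹ := by
  calc W X Y 1 * H X Y t * (W X Y 1)⁻¹
      = (W X Y 1 * W X Y t * (W X Y 1)⁻¹) * (W X Y 1 * W X Y (-1) * (W X Y 1)⁻¹) := by
        simp only [H]; group
    _ = _ := by
      rw [W_conj R one_ne_zero ht, W_conj R one_ne_zero (neg_ne_zero.2 one_ne_zero), H]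
      congr 2 <;> simp [inv_neg]

/-- The relation coming from `y(a) y(b) = y(a+b)`. -/
theorem W_triple (R : Rel X Y) {a b : F} (ha : a ≠ 0) (hb : b ≠ 0) (hc : a + b ≠ 0) :
    W X Y (-a⁻¹) * W X Y ((a + b) / (a * b)) * W X Y (-b⁻¹) = W X Y (-(a + b)⁻¹) := by
  set c := a + b with hcdef
  set s := c / (a * b) with hs
  have hab : a + b ≠ 0 := hc
  have hs0 : s ≠ 0 := div_ne_zero hc (mul_ne_zero ha hb)
  have yv : ∀ v : F, Y v = X v⁻¹ * W X Y (-v⁻¹) * X v⁻¹ := by
    intro v
    simp only [W, inv_neg, inv_inv, neg_neg, X_neg R]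
    group
  have hx : X s = Y s⁻¹ * W X Y s * Y s⁻¹ := by
    rw [W_eq R hs0]
    simp only [Y_neg R]
    group
  have hsum : X a⁻¹ * X b⁻¹ = X s := by
    rw [← R.addX, hs, hcdef]
    congr 1
    field_simp
    ring
  have hL : W X Y (-a⁻¹) * Y s⁻¹ = X (-(b / (a * c))) * W X Y (-a⁻¹) := by
    rw [← mul_inv_eq_iff_eq_mul, W_Y R (neg_ne_zero.2 (inv_ne_zero ha))]
    congr 1
    rw [hs]
    field_simp
  have hR : Y s⁻¹ * W X Y (-b⁻¹) = W X Y (-b⁻¹) * X (-(a / (b * c))) := by
    have h := W_Y R (inv_ne_zero hb) s⁻¹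
    rw [show -(b⁻¹ ^ 2 * s⁻¹) = -(a / (b * c)) by rw [hs]; field_simp] at h
    rw [W_neg R, ← h]
    group
  have h1 : X a⁻¹ * X (-(b / (a * c))) = X c⁻¹ := by
    rw [← R.addX, hcdef]
    congr 1
    field_simp
    ring
  have h2 : X (-(a / (b * c))) * X b⁻¹ = X c⁻¹ := by
    rw [← R.addX, hcdef]
    congr 1
    field_simp
    ring
  have main : Y c = X c⁻¹ * (W X Y (-a⁻¹) * W X Y s * W X Y (-b⁻¹)) * X c⁻¹ := by
    calc Y c = Y a * Y b := by rw [hcdef, R.addY]
      _ = X a⁻¹ * W X Y (-a⁻¹) * (X a⁻¹ * X b⁻¹) * W X Y (-b⁻¹) * X b⁻¹ := by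
        rw [yv a, yv b]; group
      _ = X a⁻¹ * (W X Y (-a⁻¹) * Y s⁻¹) * W X Y s * (Y s⁻¹ * W X Y (-b⁻¹)) * X b⁻¹ := by
        rw [hsum, hx]; group
      _ = (X a⁻¹ * X (-(b / (a * c)))) * (W X Y (-a⁻¹) * W X Y s * W X Y (-b⁻¹)) *
            (X (-(a / (b * c))) * X b⁻¹) := by rw [hL, hR]; group
      _ = _ := by rw [h1, h2]
  have h3 := (yv c).symm.trans main
  exact (mul_left_cancel (mul_right_cancel h3)).symm


variable [Fintype F]

/-- The torus is generated by one element of order dividing `q - 1`. -/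
theorem exists_torus_gen (R : Rel X Y) :
    ∃ ω : Fˣ, orderOf ω = Fintype.card F - 1 ∧ H X Y (ω : F) ^ (Fintype.card F - 1) = 1 ∧
      ∀ i : ℕ, H X Y ((ω : F) ^ i) = H X Y (ω : F) ^ i := by
  classical
  obtain ⟨ω, hω⟩ := IsCyclic.exists_ofOrder_eq_natCard (α := Fˣ)
  rw [Nat.card_units, Nat.card_eq_fintype_card] at hω
  set T := Subgroup.closure (Set.range fun t : Fˣ => H X Y (t : F)) with hT
  -- the action on the root groups is by a scalar
  let A : Subgroup (G × Fˣ) :=
    { carrier := {g | (∀ v, g.1 * X v * g.1⁻¹ = X ((g.2 : F) ^ 2 * v)) ∧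
        ∀ v, g.1 * Y v * g.1⁻¹ = Y (((g.2⁻¹ : Fˣ) : F) ^ 2 * v)}
      one_mem' := ⟨fun v => by simp, fun v => by simp⟩
      mul_mem' := fun {x y} hx hy => ⟨fun v => by
          calc (x.1 * y.1) * X v * (x.1 * y.1)⁻¹ = x.1 * (y.1 * X v * y.1⁻¹) * x.1⁻¹ := by group
            _ = _ := by rw [hy.1, hx.1]; congr 1; simp; ring,
        fun v => by
          calc (x.1 * y.1) * Y v * (x.1 * y.1)⁻¹ = x.1 * (y.1 * Y v * y.1⁻¹) * x.1⁻¹ := by group
            _ = _ := by rw [hy.2, hx.2]; congr 1; simp; ring⟩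
      inv_mem' := fun {x} hx => ⟨fun v => by
          have h := hx.1 (((x.2⁻¹ : Fˣ) : F) ^ 2 * v)
          rw [← mul_assoc, ← mul_pow, ← Units.val_mul, mul_inv_cancel, Units.val_one, one_pow,
            one_mul] at h
          show x.1⁻¹ * X v * x.1⁻¹⁻¹ = _
          rw [← h]; simp [mul_assoc],
        fun v => by
          have h := hx.2 ((x.2 : F) ^ 2 * v)
          rw [← mul_assoc, ← mul_pow, ← Units.val_mul, inv_mul_cancel, Units.val_one, one_pow,
            one_mul] at h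
          show x.1⁻¹ * Y v * x.1⁻¹⁻¹ = Y ((((x.2⁻¹)⁻¹ : Fˣ) : F) ^ 2 * v)
          rw [inv_inv x.2, ← h]; simp [mul_assoc]⟩ }
  have hHA : ∀ t : Fˣ, (H X Y (t : F), t) ∈ A := fun t =>
    ⟨H_X R t.ne_zero, fun v => by rw [Units.val_inv_eq_inv_val]; exact H_Y R t.ne_zero v⟩
  have hcen : ∀ g : G, (g, (1 : Fˣ)) ∈ A → g ∈ Subgroup.center G := by
    intro g hg
    rw [Subgroup.mem_center_iff]
    intro y
    have hy : y ∈ Subgroup.closure (Set.range X ∪ Set.range Y) := by rw [R.gen]; trivial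
    induction hy using Subgroup.closure_induction with
    | mem z hz =>
      rcases hz with ⟨v, rfl⟩ | ⟨v, rfl⟩
      · have := hg.1 v
        rw [Units.val_one, one_pow, one_mul, mul_inv_eq_iff_eq_mul] at this
        exact this.symm
      · have := hg.2 v
        rw [inv_one, Units.val_one, one_pow, one_mul, mul_inv_eq_iff_eq_mul] at this
        exact this.symm
    | one => simp
    | mul u v _ _ hu hv => rw [mul_assoc, hv, ← mul_assoc, hu, mul_assoc]
    | inv u _ hu => rw [inv_mul_eq_iff_eq_mul, ← mul_assoc, hu, mul_inv_cancel_right]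
  -- products of torus elements are central corrections
  have hc : ∀ t u : Fˣ, (H X Y ((t * u : Fˣ) : F))⁻¹ * (H X Y (t : F) * H X Y (u : F)) ∈
      Subgroup.center G := by
    intro t u
    apply hcen
    have h := A.mul_mem (A.inv_mem (hHA (t * u))) (A.mul_mem (hHA t) (hHA u))
    simpa using h
  have hcomm : ∀ t u : Fˣ, H X Y (t : F) * H X Y (u : F) = H X Y (u : F) * H X Y (t : F) := by
    intro t u
    have hpow : ∀ i : ℕ, ∃ z ∈ Subgroup.center G,
        H X Y ((ω ^ i : Fˣ) : F) = H X Y (ω : F) ^ i * z := by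
      intro i
      induction i with
      | zero => exact ⟨1, one_mem _, by simp [H_one R]⟩
      | succ i ih =>
        obtain ⟨z, hz, e⟩ := ih
        refine ⟨z * ((H X Y ((ω * ω ^ i : Fˣ) : F))⁻¹ * (H X Y (ω : F) * H X Y ((ω ^ i : Fˣ) : F)))⁻¹,
          mul_mem hz (inv_mem (hc ω (ω ^ i))), ?_⟩
        rw [e, pow_succ' ω, pow_succ' (H X Y (ω : F))]
        group
    have hmem : ∀ t : Fˣ, ∃ i : ℕ, ω ^ i = t := by
      intro t
      have h : Subgroup.zpowers ω = ⊤ := Subgroup.eq_top_of_card_eq _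
        (by rw [Nat.card_zpowers, hω, Nat.card_units, Nat.card_eq_fintype_card])
      exact mem_powers_iff_mem_zpowers.2 (h ▸ Subgroup.mem_top t)
    obtain ⟨i, rfl⟩ := hmem t
    obtain ⟨j, rfl⟩ := hmem u
    obtain ⟨z, hz, e⟩ := hpow i
    obtain ⟨z', hz', e'⟩ := hpow j
    rw [e, e']
    have hzc := fun g => Subgroup.mem_center_iff.1 hz g
    have hzc' := fun g => Subgroup.mem_center_iff.1 hz' g
    calc H X Y (ω : F) ^ i * z * (H X Y (ω : F) ^ j * z')
        = H X Y (ω : F) ^ i * (z * H X Y (ω : F) ^ j) * z' := by group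
      _ = H X Y (ω : F) ^ i * H X Y (ω : F) ^ j * (z * z') := by rw [← hzc]; group
      _ = H X Y (ω : F) ^ j * H X Y (ω : F) ^ i * (z' * z) := by
        rw [← pow_add, add_comm, pow_add, ← hzc z']
      _ = H X Y (ω : F) ^ j * (H X Y (ω : F) ^ i * z') * z := by group
      _ = _ := by rw [hzc']; group
  have hsq : ∀ t u : Fˣ, H X Y (((t * t * u : Fˣ)) : F) =
      H X Y ((t * t : Fˣ) : F) * H X Y (u : F) := by
    intro t u
    have e : H X Y (t : F) * H X Y (u : F) * (H X Y (t : F))⁻¹ =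
        H X Y (((t * t * u : Fˣ)) : F) * (H X Y ((t * t : Fˣ) : F))⁻¹ := by
      calc H X Y (t : F) * H X Y (u : F) * (H X Y (t : F))⁻¹
          = (H X Y (t : F) * W X Y (u : F) * (H X Y (t : F))⁻¹) *
            (H X Y (t : F) * W X Y (-1) * (H X Y (t : F))⁻¹) := by simp only [H]; group
        _ = W X Y ((t : F) ^ 2 * u) * W X Y ((t : F) ^ 2 * -1) := by
          rw [H_W R t.ne_zero u.ne_zero, H_W R t.ne_zero (neg_ne_zero.2 one_ne_zero)]
        _ = _ := by
          simp only [H, Units.val_mul, mul_neg, mul_one]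
          rw [pow_two, W_neg R ((t : F) * t)]
          group
    rw [hcomm, mul_inv_cancel_right, eq_mul_inv_iff_mul_eq] at e
    rw [← e, hcomm]
  -- even and odd powers
  set Bh := H X Y (ω : F) with hB
  set Ah := H X Y ((ω * ω : Fˣ) : F) with hA
  have heven : ∀ i : ℕ, ∀ u : Fˣ, H X Y (((ω * ω) ^ i * u : Fˣ) : F) = Ah ^ i * H X Y (u : F) := by
    intro i
    induction i with
    | zero => intro u; simp
    | succ i ih =>
      intro u
      rw [pow_succ (ω * ω), mul_assoc, ih, hsq, pow_succ Ah, mul_assoc]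
  have key : Ah = Bh * Bh := by
    by_cases h2 : Even (Fintype.card F)
    · obtain ⟨k, hk⟩ := h2
      have hk1 : 1 ≤ k := by
        have := Fintype.card_pos (α := F)
        omega
      have e : (ω * ω) ^ k = ω := by
        rw [← pow_two, ← pow_mul, show 2 * k = (Fintype.card F - 1) + 1 by omega, pow_succ, ← hω,
          pow_orderOf_eq_one, one_mul]
      have := heven k 1
      rw [e, mul_one, Units.val_one, H_one R, mul_one] at this
      have h2' := heven (2 * k) 1
      rw [mul_comm 2 k, pow_mul (ω * ω), e, pow_two, mul_one, Units.val_one, H_one R, mul_one,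
        pow_mul, ← this, pow_two] at h2'
      exact h2'
    · -- odd order: two non-squares with a square sum
      have hodd : Odd (Fintype.card F) := Nat.not_even_iff_odd.1 h2
      have hchar : ringChar F ≠ 2 := fun h => h2 (Nat.even_iff.2 (FiniteField.even_card_of_char_two h))
      obtain ⟨a, ha0, ha, hb⟩ : ∃ a : F, a ≠ 0 ∧ ¬ IsSquare a ∧ ¬ IsSquare (1 - a) := by
        by_contra hcon
        push Not at hcon
        set N := Finset.univ.filter fun a : F => ¬ IsSquare a with hN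
        set S := Finset.univ.filter fun a : F => IsSquare a ∧ a ≠ 0 with hS
        have hN0 : ∀ a ∈ N, a ≠ 0 := fun a ha e => (Finset.mem_filter.1 ha).2 (e ▸ IsSquare.zero)
        have hmap : ∀ a ∈ N, (1 - a) ∈ S.erase 1 := by
          intro a ha
          have ha2 := (Finset.mem_filter.1 ha).2
          refine Finset.mem_erase.2 ⟨?_, Finset.mem_filter.2 ⟨Finset.mem_univ _,
            hcon a (hN0 a ha) ha2, ?_⟩⟩
          · intro e; exact hN0 a ha (by linear_combination -e)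
          · intro e; exact ha2 (by rw [show a = 1 by linear_combination -e]; exact IsSquare.one)
        obtain ⟨n₀, hn₀⟩ := FiniteField.exists_nonsquare hchar
        have hn0 : n₀ ≠ 0 := fun e => hn₀ (e ▸ IsSquare.zero)
        have hSN : S.card ≤ N.card := by
          refine Finset.card_le_card_of_injOn (fun s => n₀ * s) ?_ fun s _ t _ e => mul_left_cancel₀ hn0 e
          intro s hs
          obtain ⟨-, ⟨r, rfl⟩, hs0⟩ := Finset.mem_filter.1 hs
          refine Finset.mem_filter.2 ⟨Finset.mem_univ _, ?_⟩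
          rintro ⟨m, hm⟩
          apply hn₀
          have hr : r ≠ 0 := left_ne_zero_of_mul hs0
          exact ⟨m / r, by field_simp; linear_combination hm⟩
        have h1 := Finset.card_le_card_of_injOn (s := N) (t := S.erase 1) (fun a => 1 - a) hmap
          fun a _ b _ e => sub_right_injective e
        rw [Finset.card_erase_of_mem (by simp [hS])] at h1
        have : 0 < S.card := Finset.card_pos.2 ⟨1, by simp [hS]⟩
        omega
      have hb0 : (1 : F) - a ≠ 0 := fun e => hb (e ▸ IsSquare.zero)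
      have htri := W_triple R ha0 hb0 (by simp)
      rw [add_sub_cancel, inv_one] at htri
      simp only [W_eq_H_mul R (-a⁻¹), W_eq_H_mul R (1 / (a * (1 - a))), W_eq_H_mul R (-(1 - a)⁻¹),
        W_eq_H_mul R (-1)] at htri
      have hmid : W X Y 1 * H X Y (1 / (a * (1 - a))) = H X Y (a * (1 - a)) * W X Y 1 := by
        rw [← mul_inv_eq_iff_eq_mul, W1_conj_H R (one_div_ne_zero (mul_ne_zero ha0 hb0)), one_div,
          inv_inv]
      have hm1 : W X Y 1 * W X Y 1 = (H X Y (-1 : F))⁻¹ := by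
        rw [H, W_neg R]; group; simp [pow_two]
      have e0 : H X Y (-a⁻¹) * H X Y (a * (1 - a)) * (H X Y (-1 : F))⁻¹ * H X Y (-(1 - a)⁻¹) =
          H X Y (-1 : F) := by
        apply mul_right_cancel (b := W X Y 1)
        rw [← htri, ← hm1]
        simp only [mul_assoc]
        rw [← mul_assoc (W X Y 1) (H X Y (1 / (a * (1 - a)))), hmid]
        simp only [mul_assoc]
      set f : Fˣ → G := fun t => H X Y (t : F) with hf
      have fsq : ∀ s u : Fˣ, IsSquare s → f (s * u) = f s * f u := by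
        rintro s u ⟨r, rfl⟩
        exact hsq r u
      have fone : f 1 = 1 := by show H X Y ((1 : Fˣ) : F) = 1; rw [Units.val_one]; exact H_one R
      have hsqv : ∀ s : Fˣ, IsSquare s ↔ IsSquare (s : F) := by
        intro s
        refine ⟨fun ⟨r, hr⟩ => ⟨r, by rw [hr, Units.val_mul]⟩, fun ⟨r, hr⟩ => ?_⟩
        have hr0 : r ≠ 0 := fun e => s.ne_zero (by rw [hr, e, zero_mul])
        exact ⟨Units.mk0 r hr0, Units.ext hr⟩
      have hωns : ¬ IsSquare ω := by
        rintro ⟨r, hr⟩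
        have h4 : ω ^ ((Fintype.card F - 1) / 2) = 1 := by
          obtain ⟨d, hd⟩ := hodd
          rw [hr, ← pow_two, ← pow_mul,
            show 2 * ((Fintype.card F - 1) / 2) = Fintype.card F - 1 by omega, ← Fintype.card_units,
            pow_card_eq_one]
        have h5 := orderOf_dvd_of_pow_eq_one h4
        rw [hω] at h5
        have := Fintype.one_lt_card (α := F)
        obtain ⟨d, hd⟩ := hodd
        have := Nat.le_of_dvd (by omega) h5
        omega
      have hmulns : ∀ x y : Fˣ, ¬ IsSquare x → ¬ IsSquare y → IsSquare (x * y) := by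
        intro x y hx hy
        rw [hsqv] at hx hy ⊢
        rw [Units.val_mul, ← quadraticChar_one_iff_isSquare (mul_ne_zero x.ne_zero y.ne_zero),
          map_mul, quadraticChar_neg_one_iff_not_isSquare.2 hx,
          quadraticChar_neg_one_iff_not_isSquare.2 hy]
        rfl
      have hω' : ¬ IsSquare ω⁻¹ := by rwa [isSquare_inv]
      set z := f ω * f ω * (f (ω * ω))⁻¹ with hz
      have fns : ∀ n m : Fˣ, ¬ IsSquare n → ¬ IsSquare m → f n * f m = z * f (n * m) := by
        intro n m hn hm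
        have sn : IsSquare (n * ω⁻¹) := hmulns _ _ hn hω'
        have sm : IsSquare (m * ω⁻¹) := hmulns _ _ hm hω'
        have en : f n = f (n * ω⁻¹) * f ω := by rw [← fsq _ _ sn, inv_mul_cancel_right]
        have em : f m = f (m * ω⁻¹) * f ω := by rw [← fsq _ _ sm, inv_mul_cancel_right]
        have enm : f (n * m) = f (n * ω⁻¹) * f (m * ω⁻¹) * f (ω * ω) := by
          rw [← fsq _ _ sn, ← fsq _ _ (sn.mul sm)]
          congr 1
          rw [mul_mul_mul_comm n ω⁻¹ m ω⁻¹, mul_assoc, mul_mul_mul_comm ω⁻¹ ω⁻¹ ω ω, inv_mul_cancel,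
            mul_one, mul_one]
        rw [en, em, enm, hz]
        have c : ∀ x y, Commute (f x) (f y) := hcomm
        have cz : Commute (f ω * f ω * (f (ω * ω))⁻¹) (f (n * ω⁻¹) * f (m * ω⁻¹)) :=
          ((((c _ _).mul_left (c _ _)).mul_left (c _ _).inv_left).mul_right
            (((c _ _).mul_left (c _ _)).mul_left (c _ _).inv_left))
        rw [← mul_assoc (f ω * f ω * (f (ω * ω))⁻¹), cz.eq]
        rw [mul_assoc (f (n * ω⁻¹)) (f ω), ← mul_assoc (f ω) (f (m * ω⁻¹)), (c ω (m * ω⁻¹)).eq]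
        group
      set n : Fˣ := Units.mk0 a ha0 with hn
      set m : Fˣ := Units.mk0 (1 - a) hb0 with hm
      have e0' : f (-1 * n⁻¹) * f (n * m) * (f (-1))⁻¹ * f (-1 * m⁻¹) = f (-1) := by
        simpa [f, hn, hm] using e0
      have hnn : ¬ IsSquare n := by rw [hsqv]; exact ha
      have hmm : ¬ IsSquare m := by rw [hsqv]; exact hb
      have hnm := hmulns n m hnn hmm
      have hinv1 : f (n * m) * f (n * m)⁻¹ = 1 := by rw [← fsq _ _ hnm, mul_inv_cancel, fone]
      have c : ∀ x y, Commute (f x) (f y) := hcomm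
      have hz1 : z = 1 := by
        by_cases h1 : IsSquare (-1 : Fˣ)
        · rw [fsq _ _ h1, fsq _ _ h1] at e0'
          have hn' : ¬ IsSquare n⁻¹ := by rwa [isSquare_inv]
          have hm' : ¬ IsSquare m⁻¹ := by rwa [isSquare_inv]
          have h3 : f n⁻¹ * f m⁻¹ * f (n * m) = 1 := by
            refine mul_left_cancel (a := f (-1)) ?_
            rw [mul_one]
            refine Eq.trans ?_ e0'
            rw [(c n⁻¹ (m⁻¹)).eq]
            have := c (-1) n⁻¹
            calc f (-1) * (f m⁻¹ * f n⁻¹ * f (n * m))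
                = f (-1) * f m⁻¹ * (f n⁻¹ * f (n * m)) := by group
              _ = (f (-1) * (f n⁻¹ * f (n * m))) * f m⁻¹ := by
                  rw [mul_assoc, ((c m⁻¹ n⁻¹).mul_right (c m⁻¹ (n * m))).eq, ← mul_assoc]
              _ = _ := by group
          rw [fns _ _ hn' hm', ← mul_inv, mul_assoc, (c _ _).eq, hinv1, mul_one] at h3
          exact h3
        · have sn : IsSquare (-1 * n⁻¹) := hmulns _ _ h1 (by rwa [isSquare_inv])
          have sm : IsSquare (-1 * m⁻¹) := hmulns _ _ h1 (by rwa [isSquare_inv])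
          have h3 : f (-1 * n⁻¹) * f (-1 * m⁻¹) * f (n * m) = f (-1) * f (-1) := by
            calc f (-1 * n⁻¹) * f (-1 * m⁻¹) * f (n * m)
                = f (-1 * n⁻¹) * f (n * m) * (f (-1 * m⁻¹) * (f (-1))⁻¹) * f (-1) := by
                  rw [mul_assoc (f (-1 * n⁻¹)), (c (-1 * m⁻¹) (n * m)).eq]; group
              _ = f (-1 * n⁻¹) * f (n * m) * (f (-1))⁻¹ * f (-1 * m⁻¹) * f (-1) := by
                  rw [(c (-1 * m⁻¹) (-1)).inv_right.eq]; group
              _ = _ := by rw [e0']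
          rw [← fsq _ _ sn, show (-1 : Fˣ) * n⁻¹ * (-1 * m⁻¹) = (n * m)⁻¹ by
            rw [mul_mul_mul_comm, neg_one_mul (-1 : Fˣ), neg_neg, one_mul, mul_inv],
            (c _ _).eq, hinv1, fns _ _ h1 h1, neg_one_mul, neg_neg, fone, mul_one] at h3
          exact h3.symm
      rw [hz, mul_inv_eq_one] at hz1
      exact hz1.symm
  have hall : ∀ i : ℕ, H X Y ((ω : F) ^ i) = Bh ^ i := by
    intro i
    rcases Nat.even_or_odd' i with ⟨k, rfl | rfl⟩
    · have h := heven k 1
      rw [mul_one, Units.val_one, H_one R, mul_one, key, ← pow_two, ← pow_mul] at h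
      simpa [pow_mul, pow_two] using h
    · have h := heven k ω
      rw [key, ← pow_two, ← pow_mul] at h
      rw [pow_succ Bh]
      simpa [pow_succ, pow_mul, pow_two] using h
  refine ⟨ω, hω, ?_, hall⟩
  rw [← hB, ← hall, ← hω, ← Units.val_pow_eq_pow_val, pow_orderOf_eq_one, Units.val_one, H_one R]

/-- The order bound. -/
theorem card_le (R : Rel X Y) :
    Finite G ∧ Nat.card G ≤ Fintype.card F * (Fintype.card F - 1) * (Fintype.card F + 1) := by
  classical
  obtain ⟨ω, hω, hord, hpow⟩ := exists_torus_gen R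
  set h := H X Y (ω : F) with hh
  have hq := Fintype.one_lt_card (α := F)
  have hgen : Subgroup.closure (Set.range X ∪ {h, W X Y 1}) = ⊤ := by
    rw [eq_top_iff, ← R.gen, Subgroup.closure_le]
    rintro _ (⟨v, rfl⟩ | ⟨v, rfl⟩)
    · exact Subgroup.subset_closure (Or.inl ⟨v, rfl⟩)
    · have e : Y v = W X Y 1 * X (-v) * (W X Y 1)⁻¹ := by
        rw [W_X R one_ne_zero]; simp
      rw [e]
      exact mul_mem (mul_mem (Subgroup.subset_closure (Or.inr (Or.inr rfl)))
        (Subgroup.subset_closure (Or.inl ⟨_, rfl⟩)))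
        (inv_mem (Subgroup.subset_closure (Or.inr (Or.inr rfl))))
  have hexp : ∀ t : F, t ≠ 0 → ∃ k : ℕ, t = (ω : F) ^ k := by
    intro t ht
    have h : Subgroup.zpowers ω = ⊤ := Subgroup.eq_top_of_card_eq _
      (by rw [Nat.card_zpowers, hω, Nat.card_units, Nat.card_eq_fintype_card])
    obtain ⟨i, hi⟩ : ∃ i : ℕ, ω ^ i = Units.mk0 t ht :=
      mem_powers_iff_mem_zpowers.2 (h ▸ Subgroup.mem_top _)
    exact ⟨i, by rw [← Units.val_pow_eq_pow_val, hi, Units.val_mk0]⟩
  refine SL2Pres.bruhat_bound X h (W X Y 1) ω (Fintype.card F - 1) (by omega) hgen R.addX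
    (fun t => H_X R ω.ne_zero t) hord ?_ ?_ ?_
  · have hinv : H X Y (ω : F)⁻¹ = h⁻¹ := by
      obtain ⟨k, hk⟩ := hexp _ (inv_ne_zero ω.ne_zero)
      refine eq_inv_of_mul_eq_one_left ?_
      rw [hk, hh, hpow, ← pow_succ, ← hpow, pow_succ, ← hk, inv_mul_cancel₀ ω.ne_zero, H_one R]
    rw [hh, W1_conj_H R ω.ne_zero, hinv]
  · obtain ⟨k, hk⟩ := hexp (-1) (neg_ne_zero.2 one_ne_zero)
    refine ⟨-(k : ℤ), ?_⟩
    rw [zpow_neg, zpow_natCast, ← hpow, ← hk, H, W_neg R]
    group
    simp [pow_two]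
  · intro t ht
    obtain ⟨k, hk⟩ := hexp t⁻¹ (inv_ne_zero ht)
    refine ⟨-t⁻¹, -t⁻¹, k, ?_⟩
    rw [zpow_natCast, ← hpow, ← hk, mul_assoc (X (-t⁻¹)), ← W_eq_H_mul R, W_X R one_ne_zero]
    simp only [W, inv_inv, inv_one, one_pow, one_mul, X_neg R]
    group

end CfsgLib.SL2Steinberg
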